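import Cfsg.Agent.Lib.Classical.OrthReflect

/-!
Derivations of `Ω` with values in the natural module over the field with two elements, for a
space with a basis of non-singular vectors whose perpendicularity graph is a connected graph
without triangles and whose reflections reach every non-singular vector.
-/

set_option autoImplicit false

namespace CfsgLib.OrthCohom

open CfsgLib.Orth Matrix
open scoped commutatorElement

variable {ι : Type} [Fintype ι] [DecidableEq ι] {n : ℕ}

theorem two_eq : ∀ c : ZMod 2, c = 0 ∨ c = 1 := by decide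

theorem vec_add_self (x : ι → ZMod 2) : x + x = 0 := funext fun i => by
  show x i + x i = 0
  exact CharTwo.add_self_eq_zero _

theorem vec_eq_of_add {x y : ι → ZMod 2} (h : x + y = 0) : x = y := by
  have h' := congrArg (· + y) h
  simpa [add_assoc, vec_add_self] using h'

theorem refl_formula {Q : QuadraticForm (ZMod 2) (ι → ZMod 2)} {v : ι → ZMod 2} {g : Grp Q} (h : IsRefl v g) (x : ι → ZMod 2) :
    ap g x = x + QuadraticMap.polar (⇑Q) v x • v := by
  rw [h.2, show Q v = 1 from (two_eq _).resolve_left h.1, inv_one, one_mul,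
    sub_eq_add_neg, ← neg_smul, ZMod.neg_eq_self_mod_two]

/-- The data: a triangle-free connected basis of non-singular vectors. -/
structure Frame (Q : QuadraticForm (ZMod 2) (ι → ZMod 2)) (a : Fin (n + 2) → ι → ZMod 2)
    (par : Fin (n + 2) → Fin (n + 2)) (rk : (ι → ZMod 2) → ℕ) : Prop where
  nondeg : Nondeg Q
  gen : Refl Q = ⊤
  one : ∀ i, Q (a i) = 1
  first : QuadraticMap.polar (⇑Q) (a 0) (a 1) = 1
  parent : ∀ i, i ≠ 0 → par i < i ∧ QuadraticMap.polar (⇑Q) (a i) (a (par i)) = 1
  tri : ∀ i j k, j ≠ k → QuadraticMap.polar (⇑Q) (a i) (a j) = 1 → QuadraticMap.polar (⇑Q) (a i) (a k) = 1 → QuadraticMap.polar (⇑Q) (a j) (a k) = 0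
  dual : ∀ β : Fin (n + 2) → ZMod 2, ∃ v, ∀ i, QuadraticMap.polar (⇑Q) v (a i) = β i
  reach : ∀ v, Q v = 1 → (∃ i, v = a i) ∨ ∃ i, QuadraticMap.polar (⇑Q) v (a i) = 1 ∧ rk (v + a i) < rk v

variable {Q : QuadraticForm (ZMod 2) (ι → ZMod 2)}

local notation "B" => QuadraticMap.polar (DFunLike.coe Q)

theorem h1_vanish {Qf : (ι → ZMod 2) → ZMod 2} (hQ : ⇑Q = Qf) {a : Fin (n + 2) → ι → ZMod 2}
    {par : Fin (n + 2) → Fin (n + 2)} {rk : (ι → ZMod 2) → ℕ} (hF : Frame Q a par rk)
    (f : ↥(Cfsg.Omega (ZMod 2) Qf) → ι → ZMod 2)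
    (hf : ∀ g h, f (g * h) = f g + Matrix.mulVec (((g : ↥(Cfsg.isometryGroup (ZMod 2) Qf)) :
      GL ι (ZMod 2)) : Matrix ι ι (ZMod 2)) (f h)) :
    ∃ v : ι → ZMod 2, ∀ g : ↥(Cfsg.Omega (ZMod 2) Qf), f g =
      Matrix.mulVec (((g : ↥(Cfsg.isometryGroup (ZMod 2) Qf)) : GL ι (ZMod 2)) :
        Matrix ι ι (ZMod 2)) v - v := by
  subst hQ
  change ∀ g h, f (g * h) = f g + ap (g : Grp Q) (f h) at hf
  suffices H : ∃ v, ∀ g, f g = ap (g : Grp Q) v + v by
    obtain ⟨v, hv⟩ := H
    refine ⟨v, fun g => ?_⟩
    rw [sub_eq_add_neg, show -v = v from funext fun i => ZMod.neg_eq_self_mod_two (v i)]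
    exact hv g
  choose s hs using fun i => exists_refl hF.nondeg (v := a i) (by rw [hF.one]; exact one_ne_zero)
  have haa : ∀ i, B (a i) (a i) = 0 := fun i => by rw [b_self]; exact zero_mul _
  have happ : ∀ i x, ap (s i) x = x + B (a i) x • a i := fun i => refl_formula (hs i)
  have hss : ∀ i, s i * s i = 1 := fun i => refl_mul_self (hs i)
  have hinv : ∀ i, (s i)⁻¹ = s i := fun i => refl_inv (hs i)
  have hbraid : ∀ i j, B (a i) (a j) = 1 → s j * s i * s j = s i * s j * s i := by
    intro i j h
    have h1 := refl_conj (hs i) (s j)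
    have h2 := refl_conj (hs j) (s i)
    rw [happ, hinv, b_comm, h, one_smul] at h1
    rw [happ, hinv, h, one_smul, add_comm] at h2
    exact refl_unique h1 h2
  have hedge : ∀ i j, B (a i) (a j) = 1 → s i * s j ∈ commutator (Grp Q) := by
    intro i j h
    have e : s i * s j = ⁅s j, s i⁆ := by
      rw [commutatorElement_def, hinv, hinv, hbraid i j h, mul_assoc _ (s i), hss, mul_one]
    rw [e, commutator_def]
    exact Subgroup.commutator_mem_commutator trivial trivial
  -- the reflections of the frame generate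
  have hgen : Subgroup.closure (Set.range s) = ⊤ := by
    refine top_le_iff.1 (hF.gen.ge.trans ((Subgroup.closure_le _).2 ?_))
    rintro r ⟨v, hv⟩
    induction hk : rk v using Nat.strong_induction_on generalizing v r with
    | _ k ih =>
    rcases hF.reach v ((two_eq _).resolve_left hv.1) with ⟨i, rfl⟩ | ⟨i, hi, hlt⟩
    · rw [refl_unique hv (hs i)]; exact Subgroup.subset_closure ⟨i, rfl⟩
    · have hv1 : Q (v + a i) ≠ 0 := by
        rw [q_add, hF.one, hi, (two_eq _).resolve_left hv.1]; decide
      obtain ⟨r', hr'⟩ := exists_refl hF.nondeg hv1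
      have hm := ih _ (hk ▸ hlt) (v + a i) hr' rfl
      have h2 := refl_conj hr' (s i)
      rw [happ, b_add_right, haa, add_zero, b_comm, hi, one_smul, add_assoc, vec_add_self,
        add_zero] at h2
      rw [refl_unique hv h2]
      have hmi : s i ∈ Subgroup.closure (Set.range s) := Subgroup.subset_closure ⟨i, rfl⟩
      exact mul_mem (mul_mem hmi hm) (inv_mem hmi)
  -- every element of the derived group is a product of the elements `s i * s j`
  set K := Subgroup.closure {g : Grp Q | ∃ i j, B (a i) (a j) = 1 ∧ g = s i * s j}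
  have hK0 : ∀ i, s i * s 0 ∈ K := by
    intro i
    induction hk : (i : ℕ) using Nat.strong_induction_on generalizing i with
    | _ k ih =>
    by_cases hi : i = 0
    · rw [hi, hss]; exact one_mem K
    · obtain ⟨hlt, hb⟩ := hF.parent i hi
      rw [show s i * s 0 = s i * s (par i) * (s (par i) * s 0) by
        rw [mul_assoc (s i), ← mul_assoc (s (par i)) (s (par i)), hss, one_mul]]
      exact mul_mem (Subgroup.subset_closure ⟨_, _, hb, rfl⟩) (ih _ (hk ▸ hlt) (par i) rfl)
  set E := Subgroup.closure (Set.range fun i => s i * s 0)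
  have hEK : E ≤ K := (Subgroup.closure_le _).2 (Set.range_subset_iff.2 hK0)
  have hsup : E ⊔ Subgroup.zpowers (s 0) = ⊤ := by
    refine top_le_iff.1 (hgen.ge.trans ((Subgroup.closure_le _).2 (Set.range_subset_iff.2 fun i => ?_)))
    rw [show s i = s i * s 0 * s 0 by rw [mul_assoc, hss, mul_one]]
    exact mul_mem (Subgroup.mem_sup_left (Subgroup.subset_closure ⟨i, rfl⟩))
      (Subgroup.mem_sup_right (Subgroup.mem_zpowers _))
  have hmap : E.map (MulAut.conj (s 0)).toMonoidHom ≤ E := by
    rw [MonoidHom.map_closure, Subgroup.closure_le]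
    rintro _ ⟨_, ⟨i, rfl⟩, rfl⟩
    have e : (MulAut.conj (s 0)).toMonoidHom (s i * s 0) = (s i * s 0)⁻¹ := by
      show s 0 * (s i * s 0) * (s 0)⁻¹ = _
      rw [_root_.mul_inv_rev, hinv, hinv, ← mul_assoc, mul_assoc _ (s 0) (s 0), hss, mul_one]
    rw [SetLike.mem_coe, e]
    exact inv_mem (Subgroup.subset_closure ⟨i, rfl⟩)
  haveI hEn : E.Normal := by
    rw [← Subgroup.normalizer_eq_top_iff]
    refine top_le_iff.1 (hsup.ge.trans (sup_le Subgroup.le_normalizer ?_))
    rw [Subgroup.zpowers_le, Subgroup.mem_normalizer_iff]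
    refine fun x => ⟨fun hx => hmap ⟨x, hx, rfl⟩, fun hx => ?_⟩
    have := hmap ⟨_, hx, rfl⟩
    rwa [MulEquiv.coe_toMonoidHom, MulAut.conj_apply, hinv, ← mul_assoc, ← mul_assoc, hss,
      one_mul, mul_assoc, hss, mul_one] at this
  have homega : commutator (Grp Q) ≤ E := by
    rw [commutator_def, Subgroup.commutator_le]
    have hq : ∀ x : Grp Q, ∃ z : ℤ, QuotientGroup.mk' E x = QuotientGroup.mk' E (s 0) ^ z := by
      intro x
      obtain ⟨e, he, y, ⟨z, rfl⟩, rfl⟩ := Subgroup.mem_sup_of_normal_left.1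
        (hsup.ge (Subgroup.mem_top x))
      exact ⟨z, by
        rw [map_mul, map_zpow, show QuotientGroup.mk' E e = 1 from
          (QuotientGroup.eq_one_iff e).2 he, one_mul]⟩
    intro x _ y _
    obtain ⟨m, hm⟩ := hq x
    obtain ⟨k, hk⟩ := hq y
    rw [← QuotientGroup.eq_one_iff]
    show QuotientGroup.mk' E ⁅x, y⁆ = 1
    rw [map_commutatorElement, hm, hk, commutatorElement_eq_one_iff_commute]
    exact Commute.zpow_zpow_self _ m k
  -- derivations
  let ω : ↥(commutator (Grp Q)) → Grp Q := Subtype.val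
  have hf1 : f 1 = 0 := by
    have h := hf 1 1
    rw [one_mul, show ((1 : ↥(commutator (Grp Q))) : Grp Q) = 1 from rfl, ap_one] at h
    simpa using h
  have hfinv : ∀ g, f g⁻¹ = ap (g : Grp Q)⁻¹ (f g) := by
    intro g
    have h := hf g⁻¹ g
    rw [inv_mul_cancel, hf1] at h
    exact vec_eq_of_add h.symm
  let g' : ∀ i j, B (a i) (a j) = 1 → ↥(commutator (Grp Q)) := fun i j h => ⟨_, hedge i j h⟩
  let w : ∀ i j, B (a i) (a j) = 1 → ι → ZMod 2 := fun i j h => ap (s i * s j) (f (g' i j h))
  have hcube : ∀ i j, B (a i) (a j) = 1 → (s i * s j) * (s i * s j) = s j * s i := by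
    intro i j h
    rw [show s i * s j * (s i * s j) = s i * s j * s i * s j by rw [← mul_assoc], ← hbraid i j h,
      mul_assoc _ (s j) (s j), hss, mul_one]
  have hfix : ∀ i j (d : ι → ZMod 2), B (a i) d = 0 → B (a j) d = 0 →
      ap (s i * s j) d = d := by
    intro i j d hi hj
    rw [ap_mul, happ j, hj, zero_smul, add_zero, happ, hi, zero_smul, add_zero]
  have hagree : ∀ i j h, f (g' i j h) = ap (s i * s j) (w i j h) + w i j h := by
    intro i j h
    set x := f (g' i j h)
    show x = ap (s i * s j) (ap (s i * s j) x) + ap (s i * s j) x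
    have h3 : (g' i j h) * (g' i j h) * (g' i j h) = 1 := Subtype.ext (by
      show s i * s j * (s i * s j) * (s i * s j) = 1
      rw [hcube i j h, mul_assoc, ← mul_assoc (s i) (s i), hss, one_mul, hss])
    have e := congrArg f h3
    rw [hf, hf, hf1] at e
    change x + ap (s i * s j) x + ap ((s i * s j) * (s i * s j)) x = 0 at e
    rw [ap_mul (s i * s j) (s i * s j)] at e
    exact vec_eq_of_add (by rw [add_comm (ap (s i * s j) (ap _ x)), ← add_assoc]; exact e)
  have hsymm : ∀ i j h h', w j i h' = w i j h := by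
    intro i j h h'
    show ap (s j * s i) (f (g' j i h')) = ap (s i * s j) (f (g' i j h))
    have e : g' j i h' = (g' i j h)⁻¹ := Subtype.ext (by
      show s j * s i = (s i * s j)⁻¹
      rw [_root_.mul_inv_rev, hinv, hinv])
    rw [e, hfinv, ← ap_mul]
    show ap (s j * s i * (s i * s j)⁻¹) _ = _
    rw [_root_.mul_inv_rev, hinv, hinv, hcube j i h']
  have hshared : ∀ i j k (hj : B (a i) (a j) = 1) (hk : B (a i) (a k) = 1),
      B (w i k hk) (a i) = B (w i j hj) (a i) := by
    intro i j k hj hk
    by_cases hjk : j = k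
    · subst hjk; rfl
    have hz := hF.tri i j k hjk hj hk
    set g := g' i j hj
    set h := g' i k hk
    set wj := w i j hj
    set wk := w i k hk
    let F : ↥(commutator (Grp Q)) → ι → ZMod 2 := fun x => f x + (ap (x : Grp Q) wj + wj)
    have hFg : F g = 0 := by
      show f g + (ap (s i * s j) wj + wj) = 0
      rw [← hagree i j hj]; exact vec_add_self _
    have hFmul : ∀ x y, F (x * y) = F x + ap (x : Grp Q) (F y) := by
      intro x y
      show f (x * y) + (ap ((x * y : ↥(commutator (Grp Q))) : Grp Q) wj + wj) = f x +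
        (ap (x : Grp Q) wj + wj) + ap (x : Grp Q) (f y + (ap (y : Grp Q) wj + wj))
      rw [hf, Subgroup.coe_mul, ap_mul, ap_add, ap_add]
      funext l
      simp only [Pi.add_apply]
      linear_combination -(CharTwo.add_self_eq_zero (ap (x : Grp Q) wj l))
    set d := wk + wj
    have hFh : F h = ap (s i * s k) d + d := by
      show f h + (ap (s i * s k) wj + wj) = ap (s i * s k) (wk + wj) + (wk + wj)
      rw [hagree i k hk, ap_add]
      abel
    set u := g⁻¹ * h
    have hu : (u : Grp Q) = s j * s k := by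
      show (s i * s j)⁻¹ * (s i * s k) = _
      rw [_root_.mul_inv_rev, hinv, hinv, mul_assoc, ← mul_assoc (s i) (s i), hss, one_mul]
    have hFu : F u = ap (s i * s j)⁻¹ (ap (s i * s k) d + d) := by
      have e := hFmul g u
      rw [mul_inv_cancel_left, hFg, zero_add, hFh] at e
      rw [e, show ((g : ↥(commutator (Grp Q))) : Grp Q) = s i * s j from rfl, ap_inv_ap]
    have hcomm : s j * s k = s k * s j := by
      have h1 := refl_conj (hs k) (s j)
      rw [refl_fix (hs j) hz, hinv] at h1
      calc s j * s k = s j * s k * s j * s j := by rw [mul_assoc (s j * s k), hss, mul_one]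
        _ = s k * s j := by rw [refl_unique h1 (hs k)]
    have huu : u * u = 1 := Subtype.ext (by
      show (u : Grp Q) * u = 1
      rw [hu]
      nth_rw 2 [hcomm]
      rw [mul_assoc, ← mul_assoc (s k) (s k), hss, one_mul, hss])
    have hzero : F u + ap (s j * s k) (F u) = 0 := by
      have e := hFmul u u
      rw [huu, hu] at e
      rw [← e]
      show f 1 + (ap ((1 : ↥(commutator (Grp Q))) : Grp Q) wj + wj) = 0
      rw [hf1, show ((1 : ↥(commutator (Grp Q))) : Grp Q) = 1 from rfl, ap_one, zero_add,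
        vec_add_self]
    obtain ⟨y, hy⟩ : ∃ y, F u = y := ⟨_, rfl⟩
    rw [hy] at hzero hFu
    have hBj : B y (a j) = 0 := by
      rw [ap_mul, happ k, happ j, b_add_right, b_smul_right, hz, mul_zero, add_zero,
        add_assoc y, ← add_assoc y, vec_add_self, zero_add] at hzero
      obtain ⟨e, he⟩ := hF.dual fun l => if l = j then 1 else 0
      have := congrArg (B e) hzero
      rw [b_add_right, b_smul_right, b_smul_right, he, he, if_pos rfl, if_neg (Ne.symm hjk),
        mul_one, mul_zero, zero_add, b_zero_right] at this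
      rw [b_comm]; exact this
    rw [hFu, ap_b_left, inv_inv, ap_mul (s i) (s j) (a j), happ j, haa, zero_smul, add_zero,
      happ i (a j), hj, one_smul, ap_mul, happ k d, happ i, b_add_right (a i) d, b_smul_right,
      hk, mul_one] at hBj
    have key : B d (a i) = 0 := by
      have hkj : B (a k) (a j) = 0 := by rw [b_comm]; exact hz
      have hki : B (a k) (a i) = 1 := by rw [b_comm]; exact hk
      simp only [b_add_left, b_add_right, b_smul_left, hkj, hki, haa, hj, mul_zero, mul_one,
        zero_mul, add_zero, zero_add] at hBj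
      rw [b_comm (a i) d] at hBj
      linear_combination hBj - CharTwo.add_self_eq_zero (B d (a j)) -
        CharTwo.add_self_eq_zero (B d (a i)) - CharTwo.add_self_eq_zero (B (a k) d)
    rw [b_add_left] at key
    linear_combination key - CharTwo.add_self_eq_zero (B wj (a i))
  -- the vector
  have hnb : ∀ i, ∃ j, B (a i) (a j) = 1 := fun i =>
    if hi : i = 0 then ⟨1, hi ▸ hF.first⟩ else ⟨par i, (hF.parent i hi).2⟩
  choose nb hnb using hnb
  obtain ⟨v, hv⟩ := hF.dual fun i => B (w i (nb i) (hnb i)) (a i)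
  refine ⟨v, ?_⟩
  let S : Subgroup (Grp Q) :=
    { carrier := {x | ∃ hx : x ∈ commutator (Grp Q), f ⟨x, hx⟩ = ap x v + v}
      one_mem' := ⟨one_mem _, by
        show f 1 = _
        rw [hf1, ap_one, vec_add_self]⟩
      mul_mem' := fun {x y} ⟨hx, ex⟩ ⟨hy, ey⟩ => ⟨mul_mem hx hy, by
        show f (⟨x, hx⟩ * ⟨y, hy⟩) = _
        rw [hf, ex, ey, ap_mul, ap_add]
        funext l
        simp only [Pi.add_apply]
        linear_combination CharTwo.add_self_eq_zero (ap x v l)⟩
      inv_mem' := fun {x} ⟨hx, ex⟩ => ⟨inv_mem hx, by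
        show f (⟨x, hx⟩ : ↥(commutator (Grp Q)))⁻¹ = _
        rw [hfinv, ex, ap_add]
        show ap x⁻¹ (ap x v) + ap x⁻¹ v = _
        rw [ap_inv_ap, add_comm]⟩ }
  have hKS : K ≤ S := by
    refine (Subgroup.closure_le _).2 ?_
    rintro _ ⟨i, j, hij, rfl⟩
    refine ⟨hedge i j hij, ?_⟩
    show f (g' i j hij) = _
    have hji : B (a j) (a i) = 1 := by rw [b_comm]; exact hij
    have e1 : B (a i) (v + w i j hij) = 0 := by
      rw [b_comm, b_add_left, hv i, hshared i (nb i) j (hnb i) hij]
      exact CharTwo.add_self_eq_zero _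
    have e2 : B (a j) (v + w i j hij) = 0 := by
      rw [b_comm, b_add_left, hv j, ← hsymm i j hij hji, hshared j (nb j) i (hnb j) hji]
      exact CharTwo.add_self_eq_zero _
    have e := hfix i j _ e1 e2
    rw [ap_add] at e
    rw [hagree i j hij]
    funext l
    have el := congrFun e l
    simp only [Pi.add_apply] at el ⊢
    linear_combination el - CharTwo.add_self_eq_zero (ap (s i * s j) v l) +
      CharTwo.add_self_eq_zero (w i j hij l)
  rintro ⟨g, hg⟩
  obtain ⟨hg', e⟩ := hKS (hEK (homega hg))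
  exact e

end CfsgLib.OrthCohom
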