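import Cfsg.Agent.Lib.OrthCohom.Basic
import Cfsg.Agent.Lib.Classical.OrthForms

/-!
Frames for the spaces of dimension four and six of minus type and of dimension eight of plus type.
-/

set_option autoImplicit false

namespace CfsgLib.OrthCohom

open CfsgLib.Orth

variable {ι : Type} [Fintype ι] [DecidableEq ι] {n : ℕ}

/-- The polar form of a function. -/
def pol (Qf : (ι → ZMod 2) → ZMod 2) (x y : ι → ZMod 2) : ZMod 2 := Qf (x + y) - Qf x - Qf y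

theorem frame_of_check {Q : QuadraticForm (ZMod 2) (ι → ZMod 2)} {Qf : (ι → ZMod 2) → ZMod 2}
    (hQ : ⇑Q = Qf) (hB : Nondeg Q) (hgen : Refl Q = ⊤) {a d : Fin (n + 2) → ι → ZMod 2}
    {par : Fin (n + 2) → Fin (n + 2)} {rk : (ι → ZMod 2) → ℕ}
    (h1 : ∀ i, Qf (a i) = 1) (h2 : pol Qf (a 0) (a 1) = 1)
    (h3 : ∀ i, i ≠ 0 → par i < i ∧ pol Qf (a i) (a (par i)) = 1)
    (h4 : ∀ i j k, j ≠ k → pol Qf (a i) (a j) = 1 → pol Qf (a i) (a k) = 1 →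
      pol Qf (a j) (a k) = 0)
    (h5 : ∀ l i, pol Qf (d l) (a i) = if l = i then 1 else 0)
    (h6 : ∀ v, Qf v = 1 → (∃ i, v = a i) ∨ ∃ i, pol Qf v (a i) = 1 ∧ rk (v + a i) < rk v) :
    Frame Q a par rk := by
  subst hQ
  refine ⟨hB, hgen, h1, h2, h3, h4, fun β => ⟨∑ l, β l • d l, fun i => ?_⟩, h6⟩
  show QuadraticMap.polarBilin Q (∑ l, β l • d l) (a i) = β i
  rw [map_sum, LinearMap.sum_apply, Finset.sum_eq_single i]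
  · rw [map_smul, LinearMap.smul_apply,
      show QuadraticMap.polarBilin Q (d i) (a i) = 1 from (h5 i i).trans (if_pos rfl), smul_eq_mul,
      mul_one]
  · intro l _ hl
    rw [map_smul, LinearMap.smul_apply,
      show QuadraticMap.polarBilin Q (d l) (a i) = 0 from (h5 l i).trans (if_neg hl), smul_zero]
  · exact fun h => absurd (Finset.mem_univ i) h

/-- Vectors of the frame. -/
def vecsA4 : Fin 4 → (Fin 1 ⊕ Fin 1) ⊕ Fin 2 → ZMod 2 :=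
  ![Sum.elim (Sum.elim ![0] ![0]) ![0, 1],
    Sum.elim (Sum.elim ![0] ![0]) ![1, 0],
    Sum.elim (Sum.elim ![0] ![1]) ![0, 1],
    Sum.elim (Sum.elim ![1] ![1]) ![0, 0]]

/-- Vectors of the frame. -/
def dualA4 : Fin 4 → (Fin 1 ⊕ Fin 1) ⊕ Fin 2 → ZMod 2 :=
  ![Sum.elim (Sum.elim ![1] ![1]) ![1, 0],
    Sum.elim (Sum.elim ![0] ![0]) ![0, 1],
    Sum.elim (Sum.elim ![1] ![1]) ![0, 0],
    Sum.elim (Sum.elim ![0] ![1]) ![0, 0]]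

/-- Parents in the frame. -/
def parA4 : Fin 4 → Fin 4 := ![0, 0, 1, 2]

/-- Distances from the frame. -/
def rankA4 (v : (Fin 1 ⊕ Fin 1) ⊕ Fin 2 → ZMod 2) : ℕ :=
  [0, 0, 0, 0, 0, 3, 2, 0, 0, 1, 0, 0, 1, 2, 1, 0].getD
    (1 * (v (.inl (.inl 0))).val + 2 * (v (.inl (.inr 0))).val + 4 * (v (.inr 0)).val + 8 * (v (.inr 1)).val) 0

/-- Vectors of the frame. -/
def vecsE6 : Fin 6 → (Fin 2 ⊕ Fin 2) ⊕ Fin 2 → ZMod 2 :=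
  ![Sum.elim (Sum.elim ![0, 0] ![0, 0]) ![0, 1],
    Sum.elim (Sum.elim ![0, 0] ![0, 0]) ![1, 0],
    Sum.elim (Sum.elim ![0, 0] ![0, 1]) ![0, 1],
    Sum.elim (Sum.elim ![0, 1] ![0, 1]) ![0, 0],
    Sum.elim (Sum.elim ![1, 0] ![1, 1]) ![0, 0],
    Sum.elim (Sum.elim ![0, 1] ![1, 1]) ![0, 0]]

/-- Vectors of the frame. -/
def dualE6 : Fin 6 → (Fin 2 ⊕ Fin 2) ⊕ Fin 2 → ZMod 2 :=
  ![Sum.elim (Sum.elim ![0, 1] ![1, 1]) ![1, 0],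
    Sum.elim (Sum.elim ![0, 0] ![0, 0]) ![0, 1],
    Sum.elim (Sum.elim ![0, 1] ![1, 1]) ![0, 0],
    Sum.elim (Sum.elim ![1, 0] ![1, 1]) ![0, 0],
    Sum.elim (Sum.elim ![0, 0] ![1, 0]) ![0, 0],
    Sum.elim (Sum.elim ![1, 0] ![1, 0]) ![0, 0]]

/-- Parents in the frame. -/
def parE6 : Fin 6 → Fin 6 := ![0, 0, 1, 2, 3, 2]

/-- Distances from the frame. -/
def rankE6 (v : (Fin 2 ⊕ Fin 2) ⊕ Fin 2 → ZMod 2) : ℕ :=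
  [0, 0, 0, 0, 0, 10, 0, 1, 0, 0, 0, 9, 0, 0, 0, 0, 0, 5, 3, 6, 4, 0, 3, 0, 2, 5, 0, 0, 4, 0, 0, 4, 0, 3, 1, 8, 6, 0, 1, 0, 0, 7, 0, 0, 2, 0, 0, 2, 1, 4, 2, 7, 5, 0, 2, 0, 1, 6, 0, 0, 3, 0, 0, 3].getD
    (1 * (v (.inl (.inl 0))).val + 2 * (v (.inl (.inl 1))).val + 4 * (v (.inl (.inr 0))).val + 8 * (v (.inl (.inr 1))).val + 16 * (v (.inr 0)).val + 32 * (v (.inr 1)).val) 0

/-- Vectors of the frame. -/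
def vecsE8 : Fin 8 → Fin 4 ⊕ Fin 4 → ZMod 2 :=
  ![Sum.elim ![0, 0, 0, 1] ![0, 0, 0, 1],
    Sum.elim ![0, 0, 1, 0] ![0, 0, 1, 1],
    Sum.elim ![0, 0, 0, 1] ![0, 1, 0, 1],
    Sum.elim ![0, 1, 0, 0] ![0, 1, 0, 0],
    Sum.elim ![0, 0, 1, 0] ![0, 1, 1, 0],
    Sum.elim ![0, 0, 0, 1] ![0, 0, 1, 1],
    Sum.elim ![0, 0, 1, 0] ![1, 0, 1, 0],
    Sum.elim ![1, 0, 0, 1] ![0, 0, 1, 1]]

/-- Vectors of the frame. -/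
def dualE8 : Fin 8 → Fin 4 ⊕ Fin 4 → ZMod 2 :=
  ![Sum.elim ![1, 1, 1, 1] ![0, 1, 0, 0],
    Sum.elim ![0, 0, 0, 1] ![0, 0, 0, 1],
    Sum.elim ![1, 1, 0, 1] ![0, 1, 1, 1],
    Sum.elim ![0, 0, 0, 0] ![0, 1, 0, 0],
    Sum.elim ![1, 0, 0, 1] ![0, 0, 1, 1],
    Sum.elim ![0, 0, 1, 0] ![1, 0, 1, 0],
    Sum.elim ![1, 0, 0, 0] ![0, 0, 0, 0],
    Sum.elim ![0, 0, 0, 0] ![1, 0, 0, 0]]

/-- Parents in the frame. -/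
def parE8 : Fin 8 → Fin 8 := ![0, 0, 1, 2, 3, 4, 5, 4]

/-- Distances from the frame. -/
def rankE8 (v : Fin 4 ⊕ Fin 4 → ZMod 2) : ℕ :=
  [0, 0, 0, 0, 0, 0, 0, 0, 0, 0, 0, 0, 0, 0, 0, 0, 0, 21, 0, 4, 0, 12, 0, 7, 0, 10, 0, 7, 0, 11, 0, 12, 0, 0, 0, 4, 0, 0, 3, 3, 0, 0, 3, 5, 0, 0, 16, 28, 0, 3, 16, 0, 0, 8, 17, 0, 0, 8, 15, 0, 0, 11, 6, 0, 0, 0, 0, 0, 22, 22, 1, 3, 0, 0, 0, 0, 1, 9, 2, 6, 0, 9, 0, 14, 0, 0, 17, 0, 0, 10, 0, 9, 11, 0, 14, 0, 0, 0, 18, 26, 0, 2, 0, 0, 0, 0, 5, 5, 1, 7, 0, 0, 0, 13, 4, 0, 18, 0, 0, 5, 0, 10, 15, 0, 13, 0, 0, 6, 0, 0, 0, 0, 0, 0, 0, 0, 0, 10, 1, 5, 21, 23, 2, 2, 0, 9, 0, 8, 0, 10, 0, 13, 10, 0, 15, 0, 1, 0, 18, 0, 0, 0, 4, 6, 0, 0, 17, 27, 0, 6, 0, 0, 1, 1, 0, 0, 0, 9, 14, 0, 0, 12, 5, 0, 14, 0, 0, 5, 19, 0, 0, 6, 0, 0, 0, 0, 0, 8, 3, 7, 0, 0, 19, 25, 0, 0,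 0, 0, 0, 11, 0, 8, 12, 0, 13, 0, 20, 0, 3, 0, 0, 11, 0, 6, 0, 0, 4, 4, 2, 8, 0, 0, 20, 24, 0, 0, 0, 0, 2, 4, 0, 9, 16, 0, 12, 0, 0, 7, 2, 0, 0, 15, 0, 7, 16, 0].getD
    (1 * (v (.inl 0)).val + 2 * (v (.inl 1)).val + 4 * (v (.inl 2)).val + 8 * (v (.inl 3)).val + 16 * (v (.inr 0)).val + 32 * (v (.inr 1)).val + 64 * (v (.inr 2)).val + 128 * (v (.inr 3)).val) 0

end CfsgLib.OrthCohom
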